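import Cfsg.Prelude.Def_Blocks
import Cfsg.Agent.Lib.Characters.Galois
import Cfsg.Agent.Lib.Characters.Monomial
import Cfsg.Agent.Lib.Characters.Scalar
import Mathlib.GroupTheory.Sylow
import Mathlib.LinearAlgebra.Determinant

/-!
Blichfeldt: a finite linear group of degree `n` has an abelian Hall subgroup for the primes
exceeding `n + 1`.
-/

set_option autoImplicit false

noncomputable section

namespace CfsgLib.Blichfeldt7

open Cfsg CfsgLib.Characters
open scoped ComplexConjugate

universe u

/-- All prime divisors of the order exceed `n + 1`. -/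
def BigPrimes {G : Type u} [Group G] (n : ℕ) (H : Subgroup G) : Prop :=
  ∀ q : ℕ, q.Prime → q ∣ Nat.card H → n + 1 < q

/-- A Hall subgroup for the primes exceeding `n + 1`. -/
def BigHall {G : Type u} [Group G] (n : ℕ) (H : Subgroup G) : Prop :=
  BigPrimes n H ∧ ∀ q : ℕ, q.Prime → q ∣ H.index → q ≤ n + 1

/-- There is a faithful character of degree at most `n`. -/
def HasDeg (n : ℕ) (G : Type u) [Group G] : Prop :=
  ∃ (χ : G → ℂ) (m : ℕ), IsCharacter G χ ∧ (∀ g, χ g = χ 1 → g = 1) ∧ χ 1 = m ∧ m ≤ n

variable {G : Type u} [Group G]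

theorem hasDeg_subgroup {n : ℕ} (h : HasDeg n G) (H : Subgroup G) : HasDeg n H := by
  obtain ⟨χ, m, hχ, hf, h1, hm⟩ := h
  exact ⟨fun x => χ x, m, CfsgLib.Clifford.isCharacter_subtype hχ H,
    fun x hx => Subtype.ext (hf x (by simpa using hx)), by simpa using h1, hm⟩

theorem big_one {n : ℕ} : BigPrimes n (⊥ : Subgroup G) := by
  intro q hq h
  rw [Subgroup.card_bot] at h
  exact absurd (Nat.dvd_one.1 h) hq.ne_one

theorem card_mul_relIndex7 {H K : Subgroup G} (h : H ≤ K) :
    Nat.card H * H.relIndex K = Nat.card K := by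
  rw [← Subgroup.relIndex_bot_left H, Subgroup.relIndex_mul_relIndex _ _ _ bot_le h,
    Subgroup.relIndex_bot_left]

theorem big_coprime {n a b : ℕ} (ha : ∀ q : ℕ, q.Prime → q ∣ a → n + 1 < q)
    (hb : ∀ q : ℕ, q.Prime → q ∣ b → q ≤ n + 1) : a.Coprime b :=
  Nat.coprime_of_dvd fun q hq h1 h2 => (ha q hq h1).not_ge (hb q hq h2)

theorem commute_of_faithful [Finite G] {χ : G → ℂ} (hχ : IsCharacter G χ)
    (hf : ∀ g, χ g = χ 1 → g = 1) {a b : G}
    (h : ∀ ψ : IrrCharacter G, ∀ [Fintype G], classInner χ (ψ : G → ℂ) ≠ 0 →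
      (ψ : G → ℂ) (a * b * (b * a)⁻¹) = (ψ : G → ℂ) 1) : a * b = b * a := by
  classical
  have : Fintype G := Fintype.ofFinite G
  obtain ⟨m, hm, hsum⟩ := CfsgLib.Clifford.exists_mult hχ
  refine mul_inv_eq_one.1 (hf _ ?_)
  rw [hsum]
  simp only [Finset.sum_apply, Pi.smul_apply]
  refine Finset.sum_congr rfl fun ψ _ => ?_
  rcases eq_or_ne (m ψ) 0 with h0 | h0
  · simp [h0]
  · rw [h ψ (by rw [hm]; exact_mod_cast h0)]

theorem constituent_degree_le [Fintype G] {χ : G → ℂ} (hχ : IsCharacter G χ) {d m : ℕ}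
    (ψ : IrrCharacter G) (hd : (ψ : G → ℂ) 1 = d) (hm : χ 1 = m)
    (h : classInner χ (ψ : G → ℂ) ≠ 0) : d ≤ m := by
  classical
  obtain ⟨k, hk, hsum⟩ := CfsgLib.Clifford.exists_mult hχ
  choose e he using fun φ : IrrCharacter G => irr_exists_degree φ.2
  have he' : ∀ φ : IrrCharacter G, (φ : G → ℂ) 1 = e φ := fun φ => (he φ).2
  have h1 : ((∑ φ, k φ * e φ : ℕ) : ℂ) = m := by
    rw [← hm, hsum]
    simp [Finset.sum_apply, he']
  have hde : d = e ψ := by exact_mod_cast hd.symm.trans (he' ψ)
  have hk0 : k ψ ≠ 0 := fun h0 => h (by rw [hk, h0, Nat.cast_zero])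
  calc d ≤ k ψ * e ψ := hde ▸ Nat.le_mul_of_pos_left _ (Nat.pos_of_ne_zero hk0)
    _ ≤ ∑ φ, k φ * e φ := Finset.single_le_sum (f := fun φ => k φ * e φ) (fun _ _ => Nat.zero_le _)
        (Finset.mem_univ ψ)
    _ = m := by exact_mod_cast h1

/-- Subgroups whose order involves only large primes are abelian. -/
theorem big_abelian [Finite G] {n : ℕ} (hG : HasDeg n G) (H : Subgroup G) (hH : BigPrimes n H) :
    ∀ x ∈ H, ∀ y ∈ H, x * y = y * x := by
  obtain ⟨χ, m, hχ, hf, h1, hm⟩ := hasDeg_subgroup hG H
  intro x hx y hy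
  have hc : (⟨x, hx⟩ : H) * ⟨y, hy⟩ = ⟨y, hy⟩ * ⟨x, hx⟩ := by
    refine commute_of_faithful hχ hf fun ψ _ hψ => ?_
    obtain ⟨d, hdp, hd⟩ : ∃ d : ℕ, 0 < d ∧ (ψ : H → ℂ) 1 = d := irr_exists_degree ψ.2
    obtain ⟨d', hd', -, hdvd⟩ := irr_degree_dvd_card ψ
    have hdd : d = d' := by exact_mod_cast hd.symm.trans hd'
    have hd1 : d = 1 := by
      by_contra hne
      obtain ⟨q, hq, hqd⟩ := Nat.exists_prime_and_dvd hne
      have := hH q hq (hqd.trans (hdd ▸ hdvd))
      have := Nat.le_of_dvd hdp hqd
      have := constituent_degree_le hχ ψ hd h1 hψ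
      omega
    have h1' : (ψ : H → ℂ) 1 = 1 := by rw [hd, hd1, Nat.cast_one]
    have hmul := CfsgLib.CharIto.map_mul_of_degree_one (irr_isCharacter ψ) h1'
    calc (ψ : H → ℂ) (⟨x, hx⟩ * ⟨y, hy⟩ * (⟨y, hy⟩ * ⟨x, hx⟩)⁻¹)
        = (ψ : H → ℂ) ((⟨y, hy⟩ * ⟨x, hx⟩) * (⟨y, hy⟩ * ⟨x, hx⟩)⁻¹) := by
          rw [hmul, hmul ⟨x, hx⟩, mul_comm ((ψ : H → ℂ) ⟨x, hx⟩), ← hmul, ← hmul]
      _ = (ψ : H → ℂ) 1 := by rw [mul_inv_cancel]
  exact congrArg Subtype.val hc

theorem card_dvd_of_big [Finite G] {n : ℕ} {H L : Subgroup G} (hH : BigHall n H)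
    (hL : BigPrimes n L) : Nat.card L ∣ Nat.card H := by
  have h : Nat.card L ∣ Nat.card H * H.index := H.card_mul_index ▸ L.card_subgroup_dvd_card
  exact (big_coprime hL hH.2).dvd_of_dvd_mul_right h

/-- The join with a normal subgroup. -/
theorem big_sup [Finite G] {n : ℕ} {K H : Subgroup G} [K.Normal] (hK : BigPrimes n K)
    (hH : BigPrimes n H) : BigPrimes n (K ⊔ H) := by
  intro q hq h
  have hcard : Nat.card (K ⊔ H : Subgroup G) = Nat.card K * K.relIndex H := by
    rw [← Subgroup.relIndex_sup_left (H := H) (K := K), card_mul_relIndex7 le_sup_left]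
  rw [hcard] at h
  rcases hq.dvd_mul.1 h with h | h
  · exact hK q hq h
  · exact hH q hq (h.trans (Subgroup.relIndex_dvd_card _ _))

theorem le_hall_of_normal [Finite G] {n : ℕ} {K H : Subgroup G} [K.Normal] (hK : BigPrimes n K)
    (hH : BigHall n H) : K ≤ H := by
  have h1 := card_dvd_of_big hH (big_sup hK hH.1)
  have h2 : Nat.card (K ⊔ H : Subgroup G) ≤ Nat.card H := Nat.le_of_dvd Nat.card_pos h1
  exact le_sup_left.trans (Subgroup.eq_of_le_of_card_ge le_sup_right h2).ge

theorem hall_trans [Finite G] {n : ℕ} {K : Subgroup G}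
    (hK : ∀ q : ℕ, q.Prime → q ∣ K.index → q ≤ n + 1) {A : Subgroup K} (hA : BigHall n A) :
    BigHall n (A.map K.subtype) := by
  have hc : Nat.card (A.map K.subtype) = Nat.card A :=
    (Nat.card_congr (A.equivMapOfInjective K.subtype Subtype.val_injective).toEquiv).symm
  refine ⟨fun q hq h => hA.1 q hq (hc ▸ h), fun q hq h => ?_⟩
  rw [Subgroup.index_map_subtype] at h
  rcases hq.dvd_mul.1 h with h | h
  · exact hA.2 q hq h
  · exact hK q hq h

theorem big_sylow [Finite G] {n p : ℕ} [hp : Fact p.Prime] (hnp : n + 1 < p) {P : Subgroup G}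
    (hP : IsPGroup p P) : BigPrimes n P := by
  intro q hq h
  obtain ⟨k, hk⟩ := (IsPGroup.iff_card.1 hP)
  rw [hk] at h
  rwa [(Nat.prime_dvd_prime_iff_eq hq hp.out).1 (hq.dvd_of_dvd_pow h)]

theorem isPGroup_zpowers {p : ℕ} {x : G} {k : ℕ} (h : orderOf x = p ^ k) :
    IsPGroup p (Subgroup.zpowers x) :=
  IsPGroup.of_card ((Nat.card_zpowers x).trans h)

/-- A subgroup contains a noncentral element of prime power order unless it is central. -/
theorem exists_noncentral [Finite G] {L : Subgroup G} (h : ¬ L ≤ Subgroup.center G) :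
    ∃ x ∈ L, x ∉ Subgroup.center G ∧ ∃ p k : ℕ, p.Prime ∧ p ∣ Nat.card L ∧ orderOf x = p ^ k := by
  classical
  have hne : (Subgroup.center G).relIndex L ≠ 1 := fun h1 => h (Subgroup.relIndex_eq_one.1 h1)
  obtain ⟨p, hp, hdvd⟩ := Nat.exists_prime_and_dvd hne
  have : Fact p.Prime := ⟨hp⟩
  obtain ⟨P⟩ := (inferInstance : Nonempty (Sylow p L))
  have hPZ : ¬ (P : Subgroup L) ≤ (Subgroup.center G).subgroupOf L := fun hle =>
    P.not_dvd_index (hdvd.trans (Subgroup.index_dvd_of_le hle))
  obtain ⟨x, hxP, hxZ⟩ := SetLike.not_le_iff_exists.1 hPZ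
  obtain ⟨k, hk⟩ := IsPGroup.iff_orderOf.1 P.2 ⟨x, hxP⟩
  refine ⟨x, x.2, fun hx => hxZ hx, p, k, hp, hdvd.trans (Subgroup.relIndex_dvd_card _ _), ?_⟩
  rw [Subgroup.orderOf_coe, ← hk]
  exact (Subgroup.orderOf_mk x hxP).symm

/-- Wielandt's theorem in this situation: large-prime subgroups lie in conjugates of a Hall
subgroup. -/
theorem conj_le_hall {n : ℕ} : ∀ (N : ℕ) (G : Type u) [Group G] [Finite G], Nat.card G ≤ N →
    HasDeg n G → ∀ H L : Subgroup G, BigHall n H → BigPrimes n L →
      ∃ g : G, ∀ l ∈ L, g * l * g⁻¹ ∈ H := by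
  intro N
  induction N with
  | zero => intro G _ _ h; exact absurd Nat.card_pos h.not_gt
  | succ N ih =>
    intro G _ _ hN hG H L hH hL
    by_cases hLZ : L ≤ Subgroup.center G
    · have : L.Normal := ⟨fun l hl g => by
        rwa [Subgroup.mem_center_iff.1 (hLZ hl) g, mul_inv_cancel_right]⟩
      exact ⟨1, fun l hl => by simpa using le_hall_of_normal hL hH hl⟩
    obtain ⟨x, hxL, hxZ, p, k, hp, hpL, hk⟩ := exists_noncentral hLZ
    have : Fact p.Prime := ⟨hp⟩
    have hnp := hL p hp hpL
    obtain ⟨Q, hQ⟩ := (isPGroup_zpowers hk).exists_le_sylow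
    obtain ⟨P0⟩ := (inferInstance : Nonempty (Sylow p H))
    have hP0 : IsPGroup p ((P0 : Subgroup H).map H.subtype) := P0.2.map _
    obtain ⟨P, hP⟩ := hP0.exists_le_sylow
    -- the Sylow subgroup lies inside the Hall subgroup
    have hPH : (P : Subgroup G) ≤ H := by
      have hcH : Nat.card P ≤ Nat.card ((P0 : Subgroup H).map H.subtype) := by
        rw [← Nat.card_congr ((P0 : Subgroup H).equivMapOfInjective H.subtype
          Subtype.val_injective).toEquiv, P.card_eq_multiplicity, P0.card_eq_multiplicity]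
        refine le_of_eq (congrArg _ ?_)
        rw [← H.card_mul_index, Nat.factorization_mul Nat.card_pos.ne' H.index_ne_zero_of_finite,
          Finsupp.add_apply,
          Nat.factorization_eq_zero_of_not_dvd fun h => (hH.2 p hp h).not_gt hnp, add_zero]
      rw [← Subgroup.eq_of_le_of_card_ge hP hcH]
      exact Subgroup.map_subtype_le _
    obtain ⟨g, rfl⟩ := MulAction.exists_smul_eq G Q P
    have hxg : g * x * g⁻¹ ∈ H := hPH (by
      rw [Sylow.coe_subgroup_smul, Subgroup.mem_pointwise_smul_iff_inv_smul_mem]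
      simp only [map_inv, MulAut.smul_def, MulAut.inv_apply, MulAut.conj_symm_apply]
      have : g⁻¹ * (g * x * g⁻¹) * g = x := by group
      rw [this]
      exact hQ (Subgroup.mem_zpowers x))
    set C : Subgroup G := Subgroup.centralizer {g * x * g⁻¹} with hC
    have hCne : C ≠ ⊤ := by
      intro htop
      apply hxZ
      rw [Subgroup.mem_center_iff]
      intro y
      have hy : g * y * g⁻¹ ∈ C := htop ▸ Subgroup.mem_top _
      rw [hC, Subgroup.mem_centralizer_singleton_iff] at hy
      have h2 := congrArg (fun z => g⁻¹ * z * g) hy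
      simpa [mul_assoc] using h2
    have hlt : Nat.card C ≤ N := by
      have h1 : Nat.card C < Nat.card G :=
        lt_of_le_of_ne C.card_le_card_group fun h => hCne (C.eq_top_of_card_eq h)
      omega
    have hHC : H ≤ C := fun h hh => Subgroup.mem_centralizer_singleton_iff.2
      (big_abelian hG H hH.1 h hh _ hxg)
    let L' : Subgroup C := (L.map (MulAut.conj g).toMonoidHom).subgroupOf C
    have hH' : BigHall n (H.subgroupOf C) := by
      refine ⟨fun q hq h => hH.1 q hq ?_, fun q hq h => hH.2 q hq (h.trans ?_)⟩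
      · rwa [Nat.card_congr (Subgroup.subgroupOfEquivOfLe hHC).toEquiv] at h
      · exact (Dvd.intro _ (Subgroup.relIndex_mul_index hHC))
    have hL' : BigPrimes n L' := by
      intro q hq h
      refine hL q hq (h.trans ?_)
      have h1 : Nat.card L' ∣ Nat.card (L.map (MulAut.conj g).toMonoidHom) :=
        Subgroup.card_comap_dvd_of_injective _ _ Subtype.val_injective
      rwa [← Nat.card_congr (L.equivMapOfInjective _ (MulAut.conj g).injective).toEquiv] at h1
    obtain ⟨c, hc⟩ := ih C hlt (hasDeg_subgroup hG C) _ L' hH' hL'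
    refine ⟨c * g, fun l hl => ?_⟩
    have hlC : g * l * g⁻¹ ∈ C := Subgroup.mem_centralizer_singleton_iff.2 (by
      have h2 := congrArg (fun z => g * z * g⁻¹) (big_abelian hG L hL l hl x hxL)
      simpa [mul_assoc] using h2)
    have h3 := hc ⟨g * l * g⁻¹, hlC⟩ (Subgroup.mem_subgroupOf.2 ⟨l, hl, rfl⟩)
    rw [Subgroup.mem_subgroupOf] at h3
    simpa [mul_assoc] using h3

/-- A large prime either divides the kernel or moves a faithful character. -/
theorem exists_moving [Finite G] {θ : G → ℂ} {m p : ℕ} (hp : p.Prime) (hθ : IsCharacter G θ)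
    (hf : ∀ g, θ g = θ 1 → g = 1) (h1 : θ 1 = m) (hm : m + 1 < p) (hpG : p ∣ Nat.card G) :
    ∃ k : ℕ, k.Coprime (Nat.card G) ∧ (∀ g : G, ¬ p ∣ orderOf g → g ^ k = g) ∧
      ∃ x : G, θ (x ^ k) ≠ θ x := by
  classical
  have : Fact p.Prime := ⟨hp⟩
  obtain ⟨x, hx⟩ := exists_prime_orderOf_dvd_card' p hpG
  set a := (Nat.card G).factorization p
  set m' := Nat.card G / p ^ a with hm'
  have hcard : p ^ a * m' = Nat.card G := Nat.ordProj_mul_ordCompl_eq_self _ _
  have hpm' : ¬ p ∣ m' := Nat.not_dvd_ordCompl hp Nat.card_pos.ne'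
  have ha : a ≠ 0 := by
    intro h0
    exact hpm' (by simpa [hm', h0] using hpG)
  by_contra hno
  push Not at hno
  have hfix : ∀ j : ℕ, ¬ p ∣ j → θ (x ^ j) = θ x := by
    intro j hj
    have hco : (p ^ a).Coprime m' := (hp.coprime_iff_not_dvd.2 hpm').pow_left a
    obtain ⟨k, hk1, hk2⟩ := Nat.chineseRemainder hco j 1
    have hkp : ¬ p ∣ k := fun h => hj ((((Nat.ModEq.dvd_iff hk1) (dvd_pow_self p ha))).1 h)
    have hkc : k.Coprime (Nat.card G) := by
      rw [← hcard]
      refine Nat.Coprime.mul_right (Nat.Coprime.pow_right a ?_) ?_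
      · exact (hp.coprime_iff_not_dvd.2 hkp).symm
      · exact Nat.Coprime.symm (by rw [Nat.coprime_iff_gcd_eq_one, Nat.gcd_comm, hk2.gcd_eq, Nat.gcd_one_left])
    have hfixk : ∀ g : G, ¬ p ∣ orderOf g → g ^ k = g := by
      intro g hg
      have hd : orderOf g ∣ m' := by
        have h2 : orderOf g ∣ p ^ a * m' := hcard ▸ orderOf_dvd_natCard g
        exact ((hp.coprime_iff_not_dvd.2 hg).pow_left a).symm.dvd_of_dvd_mul_left h2
      conv_rhs => rw [← pow_one g]
      exact pow_eq_pow_iff_modEq.2 (hk2.of_dvd hd)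
    rw [← hno k hkc hfixk x]
    congr 1
    exact pow_eq_pow_iff_modEq.2 ((hk1.of_dvd (hx ▸ dvd_pow_self p ha)).symm)
  -- the sum over the subgroup generated by `x`
  let Z := Subgroup.zpowers x
  have : Fintype Z := Fintype.ofFinite Z
  have hres := CfsgLib.Clifford.isCharacter_subtype hθ Z
  obtain ⟨j, hj⟩ := classInner_char_nat hres (isCharacter_one (G := Z))
  have hcZ : Nat.card Z = p := (Nat.card_zpowers x).trans hx
  have hall : ∀ z : Z, z ≠ 1 → θ z = θ x := by
    rintro ⟨z, hz⟩ hz1
    obtain ⟨i, hi, rfl⟩ : ∃ i < p, x ^ i = z := by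
      have hz' := (isOfFinOrder_of_finite x).mem_zpowers_iff_mem_range_orderOf.1 hz
      simpa [hx] using hz'
    refine hfix i fun hd => hz1 (Subtype.ext ?_)
    show x ^ i = 1
    rw [Nat.eq_zero_of_dvd_of_lt hd hi, pow_zero]
  have hsum : ∑ z : Z, θ z = θ 1 + ((p : ℂ) - 1) * θ x := by
    rw [← Finset.add_sum_erase _ _ (Finset.mem_univ (1 : Z)),
      Finset.sum_congr rfl fun z hz => hall z (Finset.ne_of_mem_erase hz), Finset.sum_const,
      Finset.card_erase_of_mem (Finset.mem_univ _), Finset.card_univ, ← Nat.card_eq_fintype_card,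
      hcZ, nsmul_eq_mul, Nat.cast_sub hp.one_le, Nat.cast_one]
    simp
  have hinner : (p : ℂ)⁻¹ * ((m : ℂ) + ((p : ℂ) - 1) * θ x) = j := by
    rw [← hj, classInner, hcZ, ← h1, ← hsum]
    simp
  have hp0 : (p : ℂ) ≠ 0 := Nat.cast_ne_zero.2 hp.ne_zero
  have hp1 : (p : ℚ) - 1 ≠ 0 := by
    have : (1 : ℚ) < p := by exact_mod_cast hp.one_lt
    linarith
  have hp1c : (p : ℂ) - 1 ≠ 0 := by exact_mod_cast hp1
  have heq : θ x = ((((p : ℚ) * j - m) / ((p : ℚ) - 1) : ℚ) : ℂ) := by
    push_cast
    rw [eq_div_iff hp1c, ← hinner, ← mul_assoc, mul_inv_cancel₀ hp0]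
    ring
  obtain ⟨z, hz⟩ := exists_int_of_isIntegral_rat (heq ▸ isIntegral_of_isCharacter hθ x)
  have hzq : (z : ℚ) * ((p : ℚ) - 1) = (p : ℚ) * j - m := by
    rw [hz, div_mul_cancel₀ _ hp1]
  have hzi : z * ((p : ℤ) - 1) = (p : ℤ) * j - m := by exact_mod_cast hzq
  have hzC : θ x = (z : ℂ) := by rw [heq, ← hz, Rat.cast_intCast]
  have hb := norm_le_degree_of_isCharacter hθ x
  rw [h1, hzC, Complex.norm_intCast, Complex.norm_natCast] at hb
  have hb' : |z| ≤ (m : ℤ) := by exact_mod_cast hb
  obtain ⟨hb1, hb2⟩ := abs_le.1 hb'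
  have hzm : z = m := by
    have hlt : (m : ℤ) + 2 ≤ p := by exact_mod_cast hm
    have hdv : ((p : ℤ)) ∣ (m - z) := ⟨(j : ℤ) - z, by linarith⟩
    rcases eq_or_ne ((m : ℤ) - z) 0 with h0 | h0
    · linarith
    · have h2 : (p : ℤ) ≤ m - z := Int.le_of_dvd (by omega) hdv
      obtain ⟨c, hc⟩ := hdv
      have hj0 : (0 : ℤ) ≤ j := by positivity
      nlinarith
  refine hp.ne_one (hx ▸ orderOf_eq_one_iff.2 (hf x ?_))
  rw [hzC, h1, hzm, Int.cast_natCast]

/-- Two large primes give an element of order their product. -/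
theorem exists_pq [Finite G] {θ : G → ℂ} {m p q : ℕ} (hp : p.Prime) (hq : q.Prime) (hpq : p ≠ q)
    (hθ : IsIrrCharacter G θ) (hf : ∀ g, θ g = θ 1 → g = 1) (h1 : θ 1 = m)
    (hmp : m + 1 < p) (hmq : m + 1 < q) (hpG : p ∣ Nat.card G) (hqG : q ∣ Nat.card G) :
    ∃ x y : G, orderOf x = p ∧ orderOf y = q ∧ x * y = y * x := by
  classical
  have : Fintype G := Fintype.ofFinite G
  obtain ⟨k, hk, hkfix, x, hkx⟩ := exists_moving hp (isCharacter_of_irr hθ) hf h1 hmp hpG
  obtain ⟨l, hl, hlfix, y, hly⟩ := exists_moving hq (isCharacter_of_irr hθ) hf h1 hmq hqG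
  by_cases hex : ∃ g : G, p ∣ orderOf g ∧ q ∣ orderOf g
  · obtain ⟨g, hgp, hgq⟩ := hex
    have hg0 : orderOf g ≠ 0 := (orderOf_pos g).ne'
    refine ⟨g ^ (orderOf g / p), g ^ (orderOf g / q), ?_, ?_, (Commute.pow_pow_self g _ _).eq⟩
    · rw [orderOf_pow_orderOf_div hg0 hgp]
    · rw [orderOf_pow_orderOf_div hg0 hgq]
  exfalso
  push Not at hex
  have hs : IsIrrCharacter G (fun g => θ (g ^ k)) := CfsgLib.CharGalois.isIrrCharacter_pow hθ hk
  have ht : IsIrrCharacter G (fun g => θ (g ^ l)) := CfsgLib.CharGalois.isIrrCharacter_pow hθ hl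
  have hzero : classInner ((fun g => θ (g ^ k)) - θ) ((fun g => θ (g ^ l)) - θ) = 0 := by
    unfold classInner
    rw [Finset.sum_eq_zero, mul_zero]
    intro g _
    by_cases hgp : p ∣ orderOf g
    · have := hlfix g (hex g hgp)
      simp [this]
    · have := hkfix g hgp
      simp [this]
  rw [classInner_sub_left, classInner_sub_right, classInner_sub_right, classInner_irr_self hθ,
    classInner_irr_ne hs hθ (fun h => hkx (congrFun h x)),
    classInner_irr_ne hθ ht (fun h => hly (congrFun h.symm y))] at hzero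
  obtain ⟨j, hj⟩ := classInner_char_nat (isCharacter_of_irr hs) (isCharacter_of_irr ht)
  rw [hj] at hzero
  have : ((j + 1 : ℕ) : ℂ) = ((0 : ℕ) : ℂ) := by push_cast; linear_combination hzero
  exact absurd (Nat.cast_injective this) (Nat.succ_ne_zero j)

/-- Blichfeldt's theorem. -/
theorem exists_bigHall {n : ℕ} : ∀ (N : ℕ) (G : Type u) [Group G] [Finite G], Nat.card G ≤ N →
    HasDeg n G → ∃ A : Subgroup G, BigHall n A := by
  intro N
  induction N with
  | zero => intro G _ _ h; exact absurd Nat.card_pos h.not_gt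
  | succ N ih =>
    intro G _ _ hN hG
    classical
    have : Fintype G := Fintype.ofFinite G
    have hprop : ∀ K : Subgroup G, K ≠ ⊤ → ∃ A : Subgroup K, BigHall n A := fun K hK => by
      refine ih K ?_ (hasDeg_subgroup hG K)
      have : Nat.card K < Nat.card G :=
        lt_of_le_of_ne K.card_le_card_group fun h => hK (K.eq_top_of_card_eq h)
      omega
    -- a proper subgroup of index free of large primes settles everything
    have hred : ∀ K : Subgroup G, K ≠ ⊤ → (∀ q : ℕ, q.Prime → q ∣ K.index → q ≤ n + 1) →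
        ∃ A : Subgroup G, BigHall n A := fun K hK hidx => by
      obtain ⟨A, hA⟩ := hprop K hK
      exact ⟨_, hall_trans hidx hA⟩
    obtain ⟨χ, m, hχ, hf, hχ1, hmn⟩ := hG
    have hG : HasDeg n G := ⟨χ, m, hχ, hf, hχ1, hmn⟩
    -- reduction to a faithful irreducible character
    by_cases hirr : ∃ ψ : IrrCharacter G, classInner χ (ψ : G → ℂ) ≠ 0 ∧
        ∀ g, (ψ : G → ℂ) g = (ψ : G → ℂ) 1 → g = 1
    swap
    · push Not at hirr
      by_contra hno
      push Not at hno
      have hall : ∀ a b : G, a * b = b * a := fun a b => by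
        refine commute_of_faithful hχ hf fun ψ inst hψ => ?_
        have hinst : inst = this := Subsingleton.elim _ _
        subst hinst
        have hψ' : classInner χ (ψ : G → ℂ) ≠ 0 := hψ
        obtain ⟨d, ρ, hρ, hψρ⟩ := ψ.2
        obtain ⟨g, hg, hg1⟩ := hirr ψ hψ'
        rw [← hψρ] at hg ⊢
        have hker : ∀ z, ρ.character z = ρ.character 1 ↔ z ∈ MonoidHom.ker ρ := fun z => by
          rw [MonoidHom.mem_ker, Representation.char_one]
          exact char_eq_degree_iff ρ z
        rw [hker] at hg ⊢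
        set K := MonoidHom.ker ρ
        have hKne : K ≠ ⊥ := fun h => hg1 (by rwa [h, Subgroup.mem_bot] at hg)
        let ρq : Representation ℂ (G ⧸ K) (Fin d → ℂ) := QuotientGroup.lift K ρ le_rfl
        have hdeg : HasDeg n (G ⧸ K) := by
          refine ⟨ρq.character, d, ⟨d, ρq, rfl⟩, fun z hz => ?_, by simp [ρq], ?_⟩
          · induction z using QuotientGroup.induction_on with | H z => ?_
            rw [QuotientGroup.eq_one_iff]
            refine (hker z).1 ?_
            simpa [ρq, Representation.character] using hz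
          · refine le_trans (constituent_degree_le hχ ψ ?_ hχ1 hψ') hmn
            rw [← hψρ, Representation.char_one, Module.finrank_fin_fun]
        have hcard : Nat.card (G ⧸ K) ≤ N := by
          have h2 : 1 < Nat.card K := (Subgroup.one_lt_card_iff_ne_bot K).2 hKne
          have h3 := K.card_eq_card_quotient_mul_card_subgroup
          have h4 : 0 < Nat.card (G ⧸ K) := Nat.card_pos
          nlinarith
        obtain ⟨Abar, hAbar⟩ := ih (G ⧸ K) hcard hdeg
        have hpre : Abar.comap (QuotientGroup.mk' K) = ⊤ := by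
          by_contra hne
          obtain ⟨A, hA⟩ := hred _ hne fun q hq h => hAbar.2 q hq (by
            rwa [Subgroup.index_comap_of_surjective _ (QuotientGroup.mk'_surjective K)] at h)
          exact hno A hA
        have htop : Abar = ⊤ := by
          apply Subgroup.comap_injective (QuotientGroup.mk'_surjective K)
          rw [hpre, Subgroup.comap_top]
        have hab := big_abelian hdeg Abar hAbar.1 (a : G ⧸ K) (htop ▸ Subgroup.mem_top _) (b : G ⧸ K)
          (htop ▸ Subgroup.mem_top _)
        rw [← QuotientGroup.mk_mul, ← QuotientGroup.mk_mul] at hab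
        rw [← QuotientGroup.eq_one_iff, QuotientGroup.mk_mul, QuotientGroup.mk_inv, hab,
          mul_inv_cancel]
      -- an abelian group has a Hall subgroup
      let A : Subgroup G :=
        { carrier := {g | ∀ q : ℕ, q.Prime → q ∣ orderOf g → n + 1 < q}
          one_mem' := fun q hq h => absurd (Nat.dvd_one.1 (orderOf_one (G := G) ▸ h)) hq.ne_one
          mul_mem' := fun {a b} ha hb q hq h => by
            have h2 := h.trans ((Commute.orderOf_mul_dvd_lcm (hall a b)).trans (Nat.lcm_dvd_mul _ _))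
            rcases hq.dvd_mul.1 h2 with h3 | h3
            exacts [ha q hq h3, hb q hq h3]
          inv_mem' := fun {a} ha q hq h => ha q hq (orderOf_inv a ▸ h) }
      refine hno A ⟨fun q hq h => ?_, fun q hq h => ?_⟩
      · have : Fact q.Prime := ⟨hq⟩
        obtain ⟨y, hy⟩ := exists_prime_orderOf_dvd_card' q h
        exact y.2 q hq (by rw [Subgroup.orderOf_coe, hy])
      · by_contra hlt
        have : Fact q.Prime := ⟨hq⟩
        obtain ⟨P⟩ := (inferInstance : Nonempty (Sylow q G))
        have hPA : (P : Subgroup G) ≤ A := fun z hz r hr hrd => by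
          obtain ⟨k, hk⟩ := IsPGroup.iff_orderOf.1 P.2 ⟨z, hz⟩
          rw [← Subgroup.orderOf_coe] at hk
          simp only at hk
          rw [hk] at hrd
          rw [(Nat.prime_dvd_prime_iff_eq hr hq).1 (hr.dvd_of_dvd_pow hrd)]
          omega
        exact P.not_dvd_index (h.trans (Subgroup.index_dvd_of_le hPA))
    obtain ⟨θ, hθc, hθf⟩ := hirr
    obtain ⟨d, hdpos, hθ1⟩ := irr_exists_degree θ.2
    have hdn : d ≤ n := (constituent_degree_le hχ θ hθ1 hχ1 hθc).trans hmn
    by_contra hno
    push Not at hno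
    -- Hall subgroups of proper normal subgroups are central
    have hcentral : ∀ M : Subgroup G, M.Normal → M ≠ ⊤ → ∀ A : Subgroup M, BigHall n A →
        A.map M.subtype ≤ Subgroup.center G := by
      intro M hMn hMtop A hA
      set A' := A.map M.subtype with hA'
      have hA'big : BigPrimes n A' := fun q hq h => hA.1 q hq (by
        rwa [← Nat.card_congr (A.equivMapOfInjective M.subtype Subtype.val_injective).toEquiv] at h)
      have hA'M : A' ≤ M := Subgroup.map_subtype_le _
      have hA'n : A'.Normal := by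
        by_contra hnn
        set Nm := Subgroup.normalizer (A' : Set G) with hNm
        have hNtop : Nm ≠ ⊤ := fun h => hnn (Subgroup.normalizer_eq_top_iff.1 h)
        have hsup : M ⊔ Nm = ⊤ := by
          rw [eq_top_iff]
          intro g _
          let L : Subgroup M := (A'.map (MulAut.conj g).toMonoidHom).subgroupOf M
          have hL : BigPrimes n L := by
            intro q hq h
            refine hA'big q hq (h.trans ?_)
            have h1 : Nat.card L ∣ Nat.card (A'.map (MulAut.conj g).toMonoidHom) :=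
              Subgroup.card_comap_dvd_of_injective _ _ Subtype.val_injective
            rwa [← Nat.card_congr (A'.equivMapOfInjective _ (MulAut.conj g).injective).toEquiv] at h1
          obtain ⟨c, hc⟩ := conj_le_hall _ M le_rfl (hasDeg_subgroup hG M) A L hA hL
          have hmg : (c : G) * g ∈ Nm := by
            have h : ∀ a ∈ A', ((c : G) * g) * a * ((c : G) * g)⁻¹ ∈ A' := by
              intro a ha
              have h1 : g * a * g⁻¹ ∈ M := hMn.conj_mem a (hA'M ha) g
              have h2 := hc ⟨g * a * g⁻¹, h1⟩ (Subgroup.mem_subgroupOf.2 ⟨a, ha, rfl⟩)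
              have h3 : ((c * ⟨g * a * g⁻¹, h1⟩ * c⁻¹ : M) : G) ∈ A' := Subgroup.mem_map_of_mem _ h2
              simpa [mul_assoc] using h3
            let z := (c : G) * g
            have hle : A'.map (MulAut.conj z).toMonoidHom ≤ A' := by
              rintro _ ⟨a, ha, rfl⟩
              simpa [z, mul_assoc] using h a ha
            have heq : A'.map (MulAut.conj z).toMonoidHom = A' :=
              Subgroup.eq_of_le_of_card_ge hle
                (Nat.card_congr (A'.equivMapOfInjective _ (MulAut.conj z).injective).toEquiv).le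
            rw [hNm, Subgroup.mem_normalizer_iff]
            intro a
            constructor
            · exact h a
            · intro ha
              rw [← heq] at ha
              obtain ⟨b, hb, hab⟩ := ha
              simp only [MulEquiv.coe_toMonoidHom, MulAut.conj_apply, z] at hab
              rwa [mul_left_cancel (mul_right_cancel hab)] at hb
          have := Subgroup.mul_mem_sup (S := M) (M.inv_mem c.2) hmg
          simpa [← mul_assoc] using this
        obtain ⟨B, hB⟩ := hred Nm hNtop fun q hq h => by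
          refine hA.2 q hq ?_
          have h1 : Nm.index = Nm.relIndex M := by
            have e1 : M.relIndex Nm = M.index := by
              rw [← Subgroup.relIndex_sup_left (H := Nm) (K := M), hsup, Subgroup.relIndex_top_right]
            have c1 := M.card_mul_index
            have c2 := Nm.card_mul_index
            have c3 : Nat.card (M ⊓ Nm : Subgroup G) * M.relIndex Nm = Nat.card Nm := by
              rw [← Subgroup.inf_relIndex_right, card_mul_relIndex7 inf_le_right]
            have c4 : Nat.card (M ⊓ Nm : Subgroup G) * Nm.relIndex M = Nat.card M := by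
              rw [← Subgroup.inf_relIndex_left, card_mul_relIndex7 inf_le_left]
            rw [← c1, ← c3, ← c4, e1] at c2
            have hpos : 0 < Nat.card (M ⊓ Nm : Subgroup G) * M.index :=
              Nat.mul_pos Nat.card_pos (Nat.pos_of_ne_zero M.index_ne_zero_of_finite)
            nlinarith
          rw [h1] at h
          refine h.trans ?_
          have h2 := Subgroup.relIndex_dvd_of_le_left M (Subgroup.le_normalizer (H := A'))
          have h3 : A'.relIndex M = A.index := by
            rw [hA', Subgroup.relIndex, Subgroup.subgroupOf,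
              Subgroup.comap_map_eq_self_of_injective Subtype.val_injective]
          exact h3 ▸ h2
        exact hno B hB
      set C := Subgroup.centralizer (A' : Set G)
      by_contra hnc
      obtain ⟨B, hB⟩ := hred C (fun h => hnc (Subgroup.centralizer_eq_top_iff_subset.1 h)) fun q hq h => by
        by_contra hlt
        have : Fact q.Prime := ⟨hq⟩
        obtain ⟨Q⟩ := (inferInstance : Nonempty (Sylow q G))
        have hAQ : BigPrimes n (A' ⊔ (Q : Subgroup G)) := big_sup hA'big (big_sylow (by omega) Q.2)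
        refine Q.not_dvd_index (h.trans (Subgroup.index_dvd_of_le fun z hz => ?_))
        rw [Subgroup.mem_centralizer_iff]
        intro a ha
        exact big_abelian hG _ hAQ a ((le_sup_left : A' ≤ A' ⊔ (Q : Subgroup G)) ha) z
          ((le_sup_right : (Q : Subgroup G) ≤ A' ⊔ (Q : Subgroup G)) hz)
      exact hno B hB
    -- no central element of large prime order
    have hnocentre : ∀ (z : G) (p : ℕ), p.Prime → n + 1 < p → orderOf z = p →
        z ∉ Subgroup.center G := by
      intro z p hp hnp hz hzc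
      have : Fact p.Prime := ⟨hp⟩
      obtain ⟨e, ρ, hρ, hθρ⟩ := θ.2
      haveI := hρ
      have hed : e = d := by
        have : ((e : ℕ) : ℂ) = d := by
          rw [← hθ1, ← hθρ, Representation.char_one, Module.finrank_fin_fun]
        exact_mod_cast this
      obtain ⟨c, hc⟩ := schur_scalar ρ (ρ z) fun x => by
        rw [← map_mul, ← map_mul, Subgroup.mem_center_iff.1 hzc x]
      set m' := Nat.card G / p ^ (Nat.card G).factorization p
      let δ : G →* ℂ := (powMonoidHom m').comp ((LinearMap.det).comp ρ)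
      have hnt : Nontrivial (Fin e → ℂ) := nontrivial_of_irreducible ρ
      have hcp : c ^ p = 1 := by
        have h := congrArg (fun x => ρ x) (hz ▸ pow_orderOf_eq_one z)
        simp only [map_pow, hc, map_one] at h
        rw [_root_.smul_pow, one_pow] at h
        exact smul_left_injective ℂ (one_ne_zero (α := Module.End ℂ (Fin e → ℂ)))
          (h.trans (one_smul ℂ _).symm)
      have hc1 : c ≠ 1 := by
        intro h
        refine hp.ne_one (hz ▸ orderOf_eq_one_iff.2 (hθf z ?_))
        rw [← hθρ, Representation.char_one]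
        exact (char_eq_degree_iff ρ z).2 (by rw [hc, h, one_smul]; rfl)
      have hord : orderOf c = p := orderOf_eq_prime hcp hc1
      have hδz : δ z ≠ 1 := by
        show (LinearMap.det (ρ z)) ^ m' ≠ 1
        rw [hc, LinearMap.det_smul, map_one, mul_one, Module.finrank_fin_fun, ← pow_mul, Ne,
          ← orderOf_dvd_iff_pow_eq_one, hord, hp.dvd_mul]
        rintro (h | h)
        · have := Nat.le_of_dvd (hed ▸ hdpos) h
          omega
        · exact Nat.not_dvd_ordCompl hp Nat.card_pos.ne' h
      set M := δ.ker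
      have hMtop : M ≠ ⊤ := fun h => hδz (δ.mem_ker.1 (h ▸ Subgroup.mem_top z : z ∈ M))
      have hMn : M.Normal := δ.normal_ker
      have hMidx : ∀ q : ℕ, q.Prime → q ∣ M.index → q = p := by
        intro q hq h
        have : Fact q.Prime := ⟨hq⟩
        obtain ⟨w, hw⟩ := exists_prime_orderOf_dvd_card' (G := G ⧸ M) q (by rwa [← M.index_eq_card])
        obtain ⟨w, rfl⟩ := QuotientGroup.mk_surjective w
        have h1 : (w : G ⧸ M) ^ (p ^ (Nat.card G).factorization p) = 1 := by
          rw [← QuotientGroup.mk_pow, QuotientGroup.eq_one_iff, δ.mem_ker]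
          show (LinearMap.det (ρ (w ^ _))) ^ m' = 1
          rw [← map_pow, ← map_pow, ← pow_mul,
            Nat.ordProj_mul_ordCompl_eq_self, pow_card_eq_one', map_one, map_one]
        have h2 := orderOf_dvd_of_pow_eq_one h1
        rw [hw] at h2
        exact (Nat.prime_dvd_prime_iff_eq hq hp).1 (hq.dvd_of_dvd_pow h2)
      obtain ⟨A, hA⟩ := hprop M hMtop
      have hAc := hcentral M hMn hMtop A hA
      set A' := A.map M.subtype with hA'
      have hA'big : BigPrimes n A' := fun q hq h => hA.1 q hq (by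
        rwa [← Nat.card_congr (A.equivMapOfInjective M.subtype Subtype.val_injective).toEquiv] at h)
      have hA'n : A'.Normal := ⟨fun a ha g => by
        rwa [Subgroup.mem_center_iff.1 (hAc ha) g, mul_inv_cancel_right]⟩
      obtain ⟨P⟩ := (inferInstance : Nonempty (Sylow p G))
      refine hno (A' ⊔ P) ⟨big_sup hA'big (big_sylow hnp P.2), fun q hq h => ?_⟩
      by_contra hlt
      rcases eq_or_ne q p with rfl | hqp
      · exact P.not_dvd_index (h.trans (Subgroup.index_dvd_of_le le_sup_right))
      · have h2 : q ∣ A'.index := h.trans (Subgroup.index_dvd_of_le le_sup_left)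
        rw [hA', Subgroup.index_map_subtype] at h2
        rcases hq.dvd_mul.1 h2 with h3 | h3
        · exact hlt (hA.2 q hq h3)
        · exact hqp (hMidx q hq h3)
    -- a largest subgroup with only large primes
    obtain ⟨H, hH, hmax⟩ := (Set.toFinite {H : Subgroup G | BigPrimes n H}).exists_maximalFor
      (fun H : Subgroup G => Nat.card H) {H : Subgroup G | BigPrimes n H}
      ⟨(⊥ : Subgroup G), (show BigPrimes n (⊥ : Subgroup G) from big_one)⟩
    have hH : BigPrimes n H := hH
    have hle : ∀ K : Subgroup G, BigPrimes n K → Nat.card K ≤ Nat.card H := fun K hK => by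
      by_contra hlt
      exact hlt (hmax hK (le_of_not_ge hlt))
    have hCx : ∀ (x : G) (p : ℕ), p.Prime → n + 1 < p → orderOf x = p →
        ∃ A : Subgroup G, BigPrimes n A ∧
          ∀ L : Subgroup G, BigPrimes n L → L ≤ Subgroup.centralizer {x} →
            Nat.card L ∣ Nat.card A := by
      intro x p hp hnp hx
      obtain ⟨A, hA⟩ := hprop (Subgroup.centralizer {x}) fun h => hnocentre x p hp hnp hx (by
        have := Subgroup.centralizer_eq_top_iff_subset.1 h
        exact this rfl)
      have hc : Nat.card (A.map (Subgroup.centralizer {x}).subtype) = Nat.card A :=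
        (Nat.card_congr (A.equivMapOfInjective _ Subtype.val_injective).toEquiv).symm
      refine ⟨A.map (Subgroup.centralizer {x}).subtype, fun q hq h => hA.1 q hq (hc ▸ h),
        fun L hL hLC => ?_⟩
      rw [hc, ← Nat.card_congr (Subgroup.subgroupOfEquivOfLe hLC).toEquiv]
      exact card_dvd_of_big hA fun q hq h => hL q hq (by
        rwa [Nat.card_congr (Subgroup.subgroupOfEquivOfLe hLC).toEquiv] at h)
    have hfull : ∀ p : ℕ, p.Prime → p ∣ Nat.card H → p ^ (Nat.card G).factorization p ∣ Nat.card H := by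
      intro p hp hpH
      have : Fact p.Prime := ⟨hp⟩
      obtain ⟨x, hx⟩ := exists_prime_orderOf_dvd_card' p hpH
      have hx' : orderOf (x : G) = p := by rw [Subgroup.orderOf_coe, hx]
      obtain ⟨A, hAbig, hA⟩ := hCx x p hp (hH p hp hpH) hx'
      have h1 := hA H hH fun h hh => Subgroup.mem_centralizer_singleton_iff.2
        (big_abelian hG H hH h hh x x.2)
      obtain ⟨P, hP⟩ := (isPGroup_zpowers (p := p) (k := 1) (by rw [hx', pow_one])).exists_le_sylow
      have hPbig : BigPrimes n (P : Subgroup G) := big_sylow (hH p hp hpH) P.2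
      have h2 := hA P hPbig fun y hy => Subgroup.mem_centralizer_singleton_iff.2
        (big_abelian hG _ hPbig y hy x (hP (Subgroup.mem_zpowers _)))
      rw [P.card_eq_multiplicity] at h2
      have hAH : Nat.card A = Nat.card H :=
        le_antisymm (hle A hAbig) (Nat.le_of_dvd Nat.card_pos h1)
      rwa [hAH] at h2
    refine hno H ⟨hH, fun q hq hqi => ?_⟩
    by_contra hlt
    have hnq : n + 1 < q := by omega
    have : Fact q.Prime := ⟨hq⟩
    have hqH : ¬ q ∣ Nat.card H := fun h => by
      have h1 := mul_dvd_mul (hfull q hq h) hqi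
      rw [H.card_mul_index, ← pow_succ] at h1
      exact Nat.pow_succ_factorization_not_dvd Nat.card_pos.ne' hq h1
    have hqG : q ∣ Nat.card G := hqi.trans (Subgroup.index_dvd_card H)
    have hHne : Nat.card H ≠ 1 := by
      intro h1
      obtain ⟨y, hy⟩ := exists_prime_orderOf_dvd_card' (G := G) q hqG
      have hbig : BigPrimes n (Subgroup.zpowers y) :=
        big_sylow hnq (isPGroup_zpowers (k := 1) (by rw [hy, pow_one]))
      have := hle _ hbig
      rw [Nat.card_zpowers, hy, h1] at this
      exact absurd this (by have := hq.one_lt; omega)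
    obtain ⟨p, hp, hpH⟩ := Nat.exists_prime_and_dvd hHne
    have : Fact p.Prime := ⟨hp⟩
    have hnp := hH p hp hpH
    have hpq : p ≠ q := fun h => hqH (h ▸ hpH)
    obtain ⟨x, y, hx, hy, hxy⟩ := exists_pq hp hq hpq θ.2 hθf hθ1 (by omega) (by omega)
      (hpH.trans H.card_subgroup_dvd_card) hqG
    -- move `x` into `H`
    obtain ⟨P0⟩ := (inferInstance : Nonempty (Sylow p H))
    obtain ⟨P, hP⟩ := (P0.2.map H.subtype).exists_le_sylow
    have hPH : (P : Subgroup G) ≤ H := by
      have hc : Nat.card P ≤ Nat.card ((P0 : Subgroup H).map H.subtype) := by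
        rw [← Nat.card_congr ((P0 : Subgroup H).equivMapOfInjective H.subtype
          Subtype.val_injective).toEquiv, P.card_eq_multiplicity, P0.card_eq_multiplicity]
        exact Nat.pow_le_pow_right hp.pos
          ((hp.pow_dvd_iff_le_factorization Nat.card_pos.ne').1 (hfull p hp hpH))
      rw [← Subgroup.eq_of_le_of_card_ge hP hc]
      exact Subgroup.map_subtype_le _
    obtain ⟨Q, hQ⟩ := (isPGroup_zpowers (p := p) (k := 1) (by rw [hx, pow_one])).exists_le_sylow
    obtain ⟨g, rfl⟩ := MulAction.exists_smul_eq G Q P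
    have hxH : g * x * g⁻¹ ∈ H := hPH (by
      rw [Sylow.coe_subgroup_smul, Subgroup.mem_pointwise_smul_iff_inv_smul_mem]
      simp only [map_inv, MulAut.smul_def, MulAut.inv_apply, MulAut.conj_symm_apply]
      have : g⁻¹ * (g * x * g⁻¹) * g = x := by group
      rw [this]
      exact hQ (Subgroup.mem_zpowers x))
    have hx' : orderOf (g * x * g⁻¹) = p := by
      rw [← MulAut.conj_apply, MulEquiv.orderOf_eq, hx]
    have hy' : orderOf (g * y * g⁻¹) = q := by
      rw [← MulAut.conj_apply, MulEquiv.orderOf_eq, hy]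
    obtain ⟨A, hAbig, hA⟩ := hCx _ p hp hnp hx'
    have h1 := hA H hH fun h hh => Subgroup.mem_centralizer_singleton_iff.2
      (big_abelian hG H hH h hh _ hxH)
    have hybig : BigPrimes n (Subgroup.zpowers (g * y * g⁻¹)) :=
      big_sylow hnq (isPGroup_zpowers (k := 1) (by rw [hy', pow_one]))
    have h2 := hA _ hybig (Subgroup.zpowers_le.2 (Subgroup.mem_centralizer_singleton_iff.2 (by
      have h3 := congrArg (fun w => g * w * g⁻¹) hxy.symm
      simpa [mul_assoc] using h3)))
    rw [Nat.card_zpowers, hy'] at h2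
    have h4 : Nat.card H * q ∣ Nat.card A :=
      Nat.Coprime.mul_dvd_of_dvd_of_dvd ((hq.coprime_iff_not_dvd.2 hqH).symm) h1 h2
    have h5 := (Nat.le_of_dvd Nat.card_pos h4).trans (hle A hAbig)
    have h6 : 0 < Nat.card H := Nat.card_pos
    have h7 := hq.two_le
    nlinarith

/-- Blichfeldt's theorem for a faithful character of degree `n`. -/
theorem exists_abelian_hall [Finite G] {χ : G → ℂ} (hχ : IsCharacter G χ)
    (hf : ∀ g : G, χ g = χ 1 → g = 1) {n : ℕ} (hn : charDegree χ = n) :
    ∃ A : Subgroup G, (∀ x ∈ A, ∀ y ∈ A, x * y = y * x) ∧ BigHall n A := by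
  obtain ⟨m, hm⟩ := exists_degree hχ
  have hmn : m = n := by rw [← hn, charDegree, hm, Complex.natCast_re, Nat.floor_natCast]
  have hG : HasDeg n G := ⟨χ, m, hχ, hf, hm, hmn.le⟩
  obtain ⟨A, hA⟩ := exists_bigHall _ G le_rfl hG
  exact ⟨A, big_abelian hG A hA.1, hA⟩

end CfsgLib.Blichfeldt7
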