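import Cfsg.Agent.Lib.Blichfeldt7.AbelianHall
import Cfsg.Agent.Lib.LinGrp.Jordan
import Mathlib.GroupTheory.IndexNormal
import Mathlib.NumberTheory.PrimeCounting

/-!
Jordan's theorem with the explicit bound `n! * 12 ^ (n * (π (n + 1) + 1))`.
-/

set_option autoImplicit false

noncomputable section

namespace CfsgLib.Blichfeldt7

open Cfsg CfsgLib.Characters

universe u

variable {G : Type u} [Group G]

theorem index_inf_dvd [Finite G] (A B : Subgroup G) [A.Normal] : (A ⊓ B).index ∣ A.index * B.index := by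
  rw [← Subgroup.relIndex_mul_index (inf_le_right : A ⊓ B ≤ B), Subgroup.inf_relIndex_right]
  exact mul_dvd_mul_right (A.relIndex_dvd_index_of_normal B) _

theorem index_finset_inf_dvd [Finite G] {ι : Type*} (K : ι → Subgroup G) [∀ i, (K i).Normal]
    (s : Finset ι) : (s.inf K).index ∣ ∏ i ∈ s, (K i).index := by
  classical
  induction s using Finset.induction_on with
  | empty => simp
  | insert a s ha ih =>
    rw [Finset.inf_insert, Finset.prod_insert ha]
    exact (index_inf_dvd _ _).trans (mul_dvd_mul_left _ ih)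

theorem prod_ordProj_dvd {N : ℕ} (s : Finset ℕ) (hs : ∀ p ∈ s, p.Prime) :
    ∏ p ∈ s, p ^ N.factorization p ∣ N := by
  classical
  induction s using Finset.induction_on with
  | empty => simp
  | insert a s ha ih =>
    rw [Finset.prod_insert ha]
    have hap := hs a (Finset.mem_insert_self _ _)
    have hs' : ∀ p ∈ s, p.Prime := fun p hp => hs p (Finset.mem_insert_of_mem hp)
    refine Nat.Coprime.mul_dvd_of_dvd_of_dvd ?_ (Nat.ordProj_dvd N a) (ih hs')
    refine Nat.Coprime.prod_right fun q hq => ?_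
    exact ((Nat.coprime_primes hap (hs' q hq)).2 fun h => ha (h ▸ hq)).pow _ _

theorem index_normalCore_dvd [Finite G] (H : Subgroup G) : H.normalCore.index ∣ H.index.factorial := by
  rw [Subgroup.normalCore_eq_ker, Subgroup.index_ker, H.index_eq_card, ← Nat.card_perm]
  exact Subgroup.card_subgroup_dvd_card _

/-- A nilpotent group with a faithful character of degree `n` has an abelian normal subgroup whose
index divides `n!`. -/
theorem exists_abelian_index_dvd_factorial [Finite G] [Group.IsNilpotent G] {χ : G → ℂ}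
    (hχ : IsCharacter G χ) (hf : ∀ g : G, χ g = χ 1 → g = 1) {n : ℕ} (hn : χ 1 = n) :
    ∃ A : Subgroup G, (∀ x ∈ A, ∀ y ∈ A, x * y = y * x) ∧ A.index ∣ n.factorial := by
  classical
  have : Fintype G := Fintype.ofFinite G
  obtain ⟨m, hm, hsum⟩ := CfsgLib.Clifford.exists_mult hχ
  choose d hd using fun ψ : IrrCharacter G => irr_exists_degree ψ.2
  choose H lam hH using fun ψ : IrrCharacter G =>
    CfsgLib.CharMonomial.monomial_of_nilpotent _ G rfl (ψ : G → ℂ) ψ.2
  have hlam : ∀ (ψ : IrrCharacter G) (a : G), a ∈ H ψ → ∀ v : H ψ, (v : G) = a →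
      extendByZero (H ψ) (fun h => (lam ψ h : ℂ)) a = (lam ψ v : ℂ) := by
    intro ψ a ha v hv
    subst hv
    rw [CfsgLib.Induction.extendByZero_mem _ _ ha]
  have hidx : ∀ ψ, d ψ = (H ψ).index := by
    intro ψ
    have h1 : (ψ : G → ℂ) 1 = ((H ψ).index : ℂ) := by
      rw [hH ψ, CfsgLib.Induction.indFun_apply]
      have ht : ∀ x : G, extendByZero (H ψ) (fun h => (lam ψ h : ℂ)) (x⁻¹ * 1 * x) = 1 := fun x => by
        rw [mul_one, inv_mul_cancel, hlam ψ 1 (one_mem _) 1 rfl, map_one, Units.val_one]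
      rw [Finset.sum_congr rfl fun x _ => ht x, Finset.sum_const, Finset.card_univ,
        ← Nat.card_eq_fintype_card, nsmul_eq_mul, mul_one, ← (H ψ).card_mul_index, Nat.cast_mul,
        ← mul_assoc, inv_mul_cancel₀ (Nat.cast_ne_zero.2 Nat.card_pos.ne'), one_mul]
    exact_mod_cast (hd ψ).2.symm.trans h1
  let s := Finset.univ.filter (fun ψ : IrrCharacter G => m ψ ≠ 0)
  refine ⟨s.inf fun ψ => (H ψ).normalCore, fun x hx y hy => ?_, ?_⟩
  · refine commute_of_faithful hχ hf fun ψ inst hψ => ?_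
    have hinst : inst = this := Subsingleton.elim _ _
    subst hinst
    have hψs : ψ ∈ s := Finset.mem_filter.2 ⟨Finset.mem_univ _, fun h => hψ (by rw [hm, h, Nat.cast_zero])⟩
    have hxK : x ∈ (H ψ).normalCore := (Finset.inf_le hψs : s.inf _ ≤ (H ψ).normalCore) hx
    have hyK : y ∈ (H ψ).normalCore := (Finset.inf_le hψs : s.inf _ ≤ (H ψ).normalCore) hy
    rw [hH ψ, CfsgLib.Induction.indFun_apply, CfsgLib.Induction.indFun_apply]
    congr 1
    refine Finset.sum_congr rfl fun z _ => ?_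
    have hxz : z⁻¹ * x * z ∈ H ψ :=
      (H ψ).normalCore_le (by simpa using (H ψ).normalCore_normal.conj_mem x hxK z⁻¹)
    have hyz : z⁻¹ * y * z ∈ H ψ :=
      (H ψ).normalCore_le (by simpa using (H ψ).normalCore_normal.conj_mem y hyK z⁻¹)
    set a : H ψ := ⟨_, hxz⟩ with ha
    set b : H ψ := ⟨_, hyz⟩ with hb
    have e : z⁻¹ * (x * y * (y * x)⁻¹) * z = ((a * b * (b * a)⁻¹ : H ψ) : G) := by
      simp [ha, hb]; group
    rw [e, hlam ψ _ (Subtype.prop _) _ rfl, mul_one, inv_mul_cancel,
      hlam ψ 1 (one_mem _) 1 rfl, map_mul, map_mul, map_inv, map_mul, mul_comm (lam ψ b) (lam ψ a),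
      mul_inv_cancel, map_one]
  · refine (index_finset_inf_dvd _ s).trans ?_
    refine (Finset.prod_dvd_prod_of_dvd _ (fun ψ => (d ψ).factorial) fun ψ _ => ?_).trans ?_
    · rw [hidx ψ]
      exact index_normalCore_dvd _
    refine (Nat.prod_factorial_dvd_factorial_sum s d).trans (Nat.factorial_dvd_factorial ?_)
    have h1 : ((∑ ψ, m ψ * d ψ : ℕ) : ℂ) = n := by
      rw [← hn, hsum]
      simp [Finset.sum_apply, (hd _).2]
    have h2 : ∑ ψ, m ψ * d ψ = n := by exact_mod_cast h1
    refine le_trans ?_ (h2.le)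
    refine le_trans (Finset.sum_le_sum fun ψ hψ => ?_)
      (Finset.sum_le_univ_sum_of_nonneg fun ψ => Nat.zero_le _)
    exact Nat.le_mul_of_pos_left _ (Nat.pos_of_ne_zero (Finset.mem_filter.1 hψ).2)

/-- The contribution of a prime at most `n + 1`. -/
theorem prime_part_le [Finite G] {χ : G → ℂ} (hχ : IsCharacter G χ)
    (hf : ∀ g : G, χ g = χ 1 → g = 1) {n : ℕ} (hn : χ 1 = n) {N : ℕ} {A : Subgroup G}
    (hA : ∀ H : Subgroup G, (∀ x ∈ H, ∀ y ∈ H, x * y = y * x) → (A.subgroupOf H).index ≤ N)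
    {p : ℕ} (hp : p.Prime) :
    p ^ A.index.factorization p ≤ p ^ n.factorial.factorization p * N := by
  have : Fact p.Prime := ⟨hp⟩
  obtain ⟨P⟩ := (inferInstance : Nonempty (Sylow p G))
  have : Group.IsNilpotent P := P.2.isNilpotent
  obtain ⟨B, hB, hBi⟩ := exists_abelian_index_dvd_factorial
    (CfsgLib.Clifford.isCharacter_subtype hχ (P : Subgroup G))
    (fun x hx => Subtype.ext (hf x (by simpa using hx))) (by simpa using hn)
  set B' := B.map (P : Subgroup G).subtype with hB'
  have hcB : Nat.card B' = Nat.card B :=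
    (Nat.card_congr (B.equivMapOfInjective _ Subtype.val_injective).toEquiv).symm
  have hB'ab : ∀ x ∈ B', ∀ y ∈ B', x * y = y * x := by
    rintro _ ⟨x, hx, rfl⟩ _ ⟨y, hy, rfl⟩
    rw [← map_mul, hB x hx y hy, map_mul]
  have h1 := hA B' hB'ab
  set X := A ⊓ B' with hX
  have hXB : Nat.card X * (A.subgroupOf B').index = Nat.card B' := by
    rw [hX, show (A.subgroupOf B').index = A.relIndex B' from rfl, ← Subgroup.inf_relIndex_right,
      card_mul_relIndex7 inf_le_right]
  obtain ⟨i, hi⟩ := IsPGroup.iff_card.1 (P.2.to_le (Subgroup.map_subtype_le B : B' ≤ P))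
  have hXc : Nat.card X ∣ p ^ i := hi ▸ Subgroup.card_dvd_of_le inf_le_right
  obtain ⟨j, -, hj⟩ := (Nat.dvd_prime_pow hp).1 hXc
  have h2 : p ^ A.index.factorization p * Nat.card X ∣ Nat.card P := by
    have h3 : p ^ A.index.factorization p * Nat.card X ∣ Nat.card G := by
      rw [← A.card_mul_index, mul_comm]
      exact mul_dvd_mul (Subgroup.card_dvd_of_le inf_le_left) (Nat.ordProj_dvd _ _)
    rw [hj, ← pow_add] at h3 ⊢
    rw [P.card_eq_multiplicity]
    exact pow_dvd_pow p ((hp.pow_dvd_iff_le_factorization Nat.card_pos.ne').1 h3)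
  obtain ⟨k, hk⟩ := IsPGroup.iff_card.1 P.2
  have hBp : B.index ≤ p ^ n.factorial.factorization p := by
    obtain ⟨l, -, hl⟩ := (Nat.dvd_prime_pow hp).1 (hk ▸ B.index_dvd_card)
    rw [hl] at hBi ⊢
    exact Nat.pow_le_pow_right hp.pos
      ((hp.pow_dvd_iff_le_factorization (Nat.factorial_ne_zero n)).1 hBi)
  have h4 := Nat.le_of_dvd Nat.card_pos h2
  have h5 : Nat.card P = Nat.card B * B.index := B.card_mul_index.symm
  refine Nat.le_of_mul_le_mul_right ?_ (Nat.card_pos : 0 < Nat.card X)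
  calc p ^ A.index.factorization p * Nat.card X ≤ Nat.card B * B.index := h5 ▸ h4
    _ = Nat.card X * (A.subgroupOf B').index * B.index := by rw [hXB, hcB]
    _ ≤ Nat.card X * N * p ^ n.factorial.factorization p :=
      Nat.mul_le_mul (Nat.mul_le_mul_left _ h1) hBp
    _ = p ^ n.factorial.factorization p * N * Nat.card X := by ring

theorem jordan_explicit {G : Type u} [Group G] [Finite G] (χ : G → ℂ) (hχ : IsCharacter G χ)
    (hf : ∀ g : G, χ g = χ 1 → g = 1) (n : ℕ) (hn : charDegree χ = n) :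
    ∃ A : Subgroup G, A.Normal ∧ (∀ x ∈ A, ∀ y ∈ A, x * y = y * x) ∧
      A.index ≤ n.factorial * 12 ^ (n * (Nat.primeCounting (n + 1) + 1)) := by
  classical
  obtain ⟨A, hAn, hAab, hA⟩ := CfsgLib.LinGrp.jordan_frobenius χ hχ hf n hn
  obtain ⟨H, hHab, hH⟩ := exists_abelian_hall hχ hf hn
  obtain ⟨m, hm⟩ := exists_degree hχ
  have hmn : m = n := by rw [← hn, charDegree, hm, Complex.natCast_re, Nat.floor_natCast]
  subst hmn
  refine ⟨A, hAn, hAab, ?_⟩
  set f := A.index.factorization
  have hi0 : A.index ≠ 0 := A.index_ne_zero_of_finite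
  set S := A.index.primeFactors.filter (· ≤ m + 1)
  set L := A.index.primeFactors.filter (fun p => ¬ p ≤ m + 1)
  have hsplit : A.index = (∏ p ∈ S, p ^ f p) * ∏ p ∈ L, p ^ f p := by
    rw [Finset.prod_filter_mul_prod_filter_not]
    conv_lhs => rw [← Nat.prod_factorization_pow_eq_self hi0]
    rw [Finsupp.prod, Nat.support_factorization]
  -- primes above the bound
  have hlarge : ∏ p ∈ L, p ^ f p ≤ 12 ^ m := by
    set X := A ⊓ H with hX
    have hXH : Nat.card X * (A.subgroupOf H).index = Nat.card H := by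
      rw [hX, show (A.subgroupOf H).index = A.relIndex H from rfl, ← Subgroup.inf_relIndex_right,
        card_mul_relIndex7 inf_le_right]
    have hdG : (∏ p ∈ L, p ^ f p) * Nat.card X ∣ Nat.card H * H.index := by
      rw [H.card_mul_index, ← A.card_mul_index, mul_comm (Nat.card A)]
      exact mul_dvd_mul (hsplit ▸ dvd_mul_left _ _) (Subgroup.card_dvd_of_le inf_le_left)
    have hco : ((∏ p ∈ L, p ^ f p) * Nat.card X).Coprime H.index := by
      refine big_coprime (n := m) (fun q hq h => ?_) hH.2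
      rcases hq.dvd_mul.1 h with h | h
      · obtain ⟨p, hp, hqp⟩ := (Prime.dvd_finsetProd_iff hq.prime _).1 h
        obtain ⟨hpf, hp2⟩ := Finset.mem_filter.1 hp
        rw [(Nat.prime_dvd_prime_iff_eq hq (Nat.prime_of_mem_primeFactors hpf)).1
          (hq.dvd_of_dvd_pow hqp)]
        omega
      · exact hH.1 q hq (h.trans (Subgroup.card_dvd_of_le inf_le_right))
    have h1 := Nat.le_of_dvd Nat.card_pos (hco.dvd_of_dvd_mul_right hdG)
    refine Nat.le_of_mul_le_mul_right ?_ (Nat.card_pos : 0 < Nat.card X)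
    calc _ ≤ Nat.card X * (A.subgroupOf H).index := hXH ▸ h1
      _ ≤ Nat.card X * 12 ^ m := Nat.mul_le_mul_left _ (hA H hHab)
      _ = 12 ^ m * Nat.card X := mul_comm _ _
  -- small primes
  have hsmall : ∏ p ∈ S, p ^ f p ≤ m.factorial * 12 ^ (m * Nat.primeCounting (m + 1)) := by
    refine (Finset.prod_le_prod (g := fun p => p ^ m.factorial.factorization p * 12 ^ m)
      (fun _ _ => Nat.zero_le _) fun p hp => prime_part_le hχ hf hm hA
        (Nat.prime_of_mem_primeFactors (Finset.mem_filter.1 hp).1)).trans ?_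
    rw [Finset.prod_mul_distrib, Finset.prod_const]
    refine Nat.mul_le_mul ?_ ?_
    · refine Nat.le_of_dvd (Nat.factorial_pos m) ?_
      exact prod_ordProj_dvd S fun p hp => Nat.prime_of_mem_primeFactors (Finset.mem_filter.1 hp).1
    · rw [← pow_mul]
      refine Nat.pow_le_pow_right (by norm_num) (Nat.mul_le_mul_left _ ?_)
      rw [Nat.primeCounting, ← Nat.primesBelow_card_eq_primeCounting']
      refine Finset.card_le_card fun p hp => Nat.mem_primesBelow.2 ?_
      obtain ⟨hpf, hp2⟩ := Finset.mem_filter.1 hp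
      exact ⟨by omega, Nat.prime_of_mem_primeFactors hpf⟩
  rw [hsplit]
  refine (Nat.mul_le_mul hsmall hlarge).trans (le_of_eq ?_)
  rw [mul_assoc, ← pow_add, mul_add, mul_one]

end CfsgLib.Blichfeldt7
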